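import Cfsg.Agent.H210.ON3.Words
import Cfsg.Agent.H210.On7.Primes
import Cfsg.Agent.H266.ON3.Sieve

/-!
# The centralizers of the elements of order 7 of the O'Nan group (helper210)
-/

set_option autoImplicit false
set_option maxRecDepth 100000

namespace Cfsg.Agent.H210.ON3

open Subgroup Cfsg
open Cfsg.Spor (ON)
open Cfsg.Agent.SporadicB.ON45Word (on)
open Cfsg.Agent.KFacts.ON.Struct
open Cfsg.Agent.KFacts.ON.Cent (hON finite_ON cen card_K0 card_cent)
open Cfsg.Agent.ONType.TupK (K0)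
open Cfsg.Agent.H474.ONC
open Cfsg.Agent.H266.ON3

theorem card_cent_of_isConj {G : Type*} [Group G] {x y : G} (h : IsConj x y) :
    Nat.card (centralizer ({x} : Set G)) = Nat.card (centralizer ({y} : Set G)) := by
  obtain ⟨g, rfl⟩ := isConj_iff.1 h
  refine Nat.card_congr ⟨fun a => ⟨g * a * g⁻¹, ?_⟩, fun a => ⟨g⁻¹ * a * g, ?_⟩, fun a => ?_, fun a => ?_⟩
  · have := mem_centralizer_singleton_iff.1 a.2
    rw [mem_centralizer_singleton_iff]
    calc g * a * g⁻¹ * (g * x * g⁻¹) = g * (a * x) * g⁻¹ := by group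
      _ = g * (x * a) * g⁻¹ := by rw [this]
      _ = _ := by group
  · have h4 := mem_centralizer_singleton_iff.1 a.2
    rw [mem_centralizer_singleton_iff]
    calc g⁻¹ * a * g * x = g⁻¹ * (a * (g * x * g⁻¹)) * g := by group
      _ = g⁻¹ * ((g * x * g⁻¹) * a) * g := by rw [h4]
      _ = _ := by group
  · apply Subtype.ext
    change g⁻¹ * (g * (a : G) * g⁻¹) * g = a
    group
  · apply Subtype.ext
    change g * (g⁻¹ * (a : G) * g) * g⁻¹ = a
    group

/-- centralizer orders not divisible by `2, 3, 5, 11, 19, 31` -/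
theorem no_nineteen' {x : ON} (hx : orderOf x = 7) : ¬ 19 ∣ Nat.card ↥(centralizer ({x} : Set ON)) := by
  have hfin := finite_ON
  intro h
  obtain ⟨u, hu, hux⟩ := exists_comm (by norm_num : Nat.Prime 19) h
  have h1 := dvd_cent hux.symm
  rw [On7.card_cent_nineteen hu, hx] at h1
  norm_num at h1

theorem no_thirtyone' {x : ON} (hx : orderOf x = 7) : ¬ 31 ∣ Nat.card ↥(centralizer ({x} : Set ON)) := by
  have hfin := finite_ON
  intro h
  obtain ⟨u, hu, hux⟩ := exists_comm (by norm_num : Nat.Prime 31) h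
  have h1 := dvd_cent hux.symm
  rw [(On7.thirtyone hu).1, hx] at h1
  norm_num at h1

/-- the order of the centralizer of an element of order 7 -/
theorem shape7 {x : ON} (hx : orderOf x = 7) : ∃ a d : ℕ, d ≤ 3 ∧
    Nat.card ↥(centralizer ({x} : Set ON)) = 2 ^ a * 7 ^ d := by
  have hfin := finite_ON
  have h3 : ¬ 3 ∣ Nat.card ↥(centralizer ({x} : Set ON)) := On7.no_three hx (by norm_num)
  have h5 : ¬ 5 ∣ Nat.card ↥(centralizer ({x} : Set ON)) := no_five hx (by norm_num)
  have h11 : ¬ 11 ∣ Nat.card ↥(centralizer ({x} : Set ON)) := no_eleven hx (by norm_num)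
  have h19 := no_nineteen' hx
  have h31 := no_thirtyone' hx
  obtain ⟨a, b, c, d, e, f, g, ha, hb, hc, hd, he, hf, hg, hs⟩ := shape (cent_dvd x)
  rw [hs] at h3 h5 h11 h19 h31
  have hb0 : b = 0 := by
    by_contra h
    apply h3
    obtain ⟨k, rfl⟩ := Nat.exists_eq_succ_of_ne_zero h
    exact ⟨2 ^ a * (3 ^ k * (5 ^ c * (7 ^ d * (11 ^ e * (19 ^ f * 31 ^ g))))), by rw [pow_succ]; ring⟩
  have hc0 : c = 0 := by
    by_contra h
    apply h5
    obtain ⟨k, rfl⟩ := Nat.exists_eq_succ_of_ne_zero h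
    exact ⟨2 ^ a * (3 ^ b * (5 ^ k * (7 ^ d * (11 ^ e * (19 ^ f * 31 ^ g))))), by rw [pow_succ]; ring⟩
  have he0 : e = 0 := by
    by_contra h
    apply h11
    obtain ⟨k, rfl⟩ := Nat.exists_eq_succ_of_ne_zero h
    exact ⟨2 ^ a * (3 ^ b * (5 ^ c * (7 ^ d * (11 ^ k * (19 ^ f * 31 ^ g))))), by rw [pow_succ]; ring⟩
  have hf0 : f = 0 := by
    by_contra h
    apply h19
    obtain ⟨k, rfl⟩ := Nat.exists_eq_succ_of_ne_zero h
    exact ⟨2 ^ a * (3 ^ b * (5 ^ c * (7 ^ d * (11 ^ e * (19 ^ k * 31 ^ g))))), by rw [pow_succ]; ring⟩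
  have hg0 : g = 0 := by
    by_contra h
    apply h31
    obtain ⟨k, rfl⟩ := Nat.exists_eq_succ_of_ne_zero h
    exact ⟨2 ^ a * (3 ^ b * (5 ^ c * (7 ^ d * (11 ^ e * (19 ^ f * 31 ^ k))))), by rw [pow_succ]; ring⟩
  subst hb0 hc0 he0 hf0 hg0
  exact ⟨a, d, hd, by rw [hs]; ring⟩

theorem card_x7 : Nat.card (centralizer ({x7} : Set ON)) = 1372 := by
  have hfin := finite_ON
  obtain ⟨a, d, hd, hs⟩ := shape7 order_x7
  obtain ⟨M, -, -, hodd, hc, -⟩ := loc7.exists_compl
  have h343 := n7_343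
  rw [hs] at h343 hc ⊢
  have hd3 : d = 3 := by
    have h1 : Nat.Coprime (7 ^ 3) (2 ^ a) := Nat.Coprime.pow _ _ (by norm_num)
    have h2 : 7 ^ 3 ∣ 7 ^ d := h1.dvd_of_dvd_mul_left (by norm_num; exact h343)
    have h3 := (Nat.pow_dvd_pow_iff_le_right (by norm_num : 1 < 7)).1 h2
    omega
  subst hd3
  have ha2 : a = 2 := by
    rcases a with _ | _ | _ | a
    · exfalso; omega
    · exfalso; rw [zero_add, pow_one] at hc; omega
    · rfl
    · exfalso
      rw [pow_succ, pow_succ, pow_succ] at hc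
      have h4 : 2 ∣ Nat.card M := ⟨2 ^ a * 343, by
        have : 4 * Nat.card M = 4 * (2 * (2 ^ a * 343)) := by rw [← hc]; ring
        omega⟩
      exact (Nat.not_even_iff_odd.2 hodd) (even_iff_two_dvd.2 h4)
  subst ha2
  norm_num

/-- an element of order 7 commuting with an involution -/
theorem conj_x7 {x t : ON} (hx : orderOf x = 7) (ht : orderOf t = 2) (h : t * x = x * t) : IsConj x x7 := by
  have hfin := finite_ON
  have h7F : Fact (Nat.Prime 7) := ⟨by norm_num⟩
  obtain ⟨c, hc⟩ := isConj_iff.1 (KFacts.ON.OneClass.one_class (w := t) (by rw [← pow_two, ← ht, pow_orderOf_eq_one])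
    (by rintro rfl; rw [orderOf_one] at ht; norm_num at ht))
  have hyK : c * x * c⁻¹ ∈ K0 := by
    rw [mem_K0, ← hc]
    calc c * x * c⁻¹ * (c * t * c⁻¹) = c * (x * t) * c⁻¹ := by group
      _ = c * (t * x) * c⁻¹ := by rw [h]
      _ = c * t * c⁻¹ * (c * x * c⁻¹) := by group
  have hy : orderOf (⟨c * x * c⁻¹, hyK⟩ : K0) = 7 := by
    rw [← orderOf_coe, ← hx]
    exact orderOf_injective (MulAut.conj c).toMonoidHom (MulAut.conj c).injective x
  have hx0 : orderOf (⟨x7, CpAutON.Seven.x0_mem⟩ : K0) = 7 := by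
    rw [← orderOf_coe]; exact order_x7
  obtain ⟨g, hg⟩ := CpAutON.Gen.conj_into (G := K0) (p := 7) (by rw [card_K0]; norm_num) hy hx0
  rw [← mem_powers_iff_mem_zpowers] at hg
  obtain ⟨n, hn⟩ := hg
  have hn' : x7 ^ n = (g : ON) * (c * x * c⁻¹) * (g : ON)⁻¹ := congrArg Subtype.val hn
  have h1 : IsConj x (x7 ^ n) := by
    rw [isConj_iff]
    exact ⟨(g : ON) * c, by rw [hn']; group⟩
  have h2 : IsConj (x7 ^ 3) x7 := (isConj_iff.2 ⟨_, CpAutON.Seven.y0_conj⟩ : IsConj x7 (x7 ^ 3)).symm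
  refine h1.trans (conj_all CpAutON.Seven.x0_pow h2 (ne_of_isConj h1 ?_))
  rintro rfl
  rw [orderOf_one] at hx
  norm_num at hx

theorem order_C : orderOf C = 7 := by
  have : Fact (Nat.Prime 7) := ⟨by norm_num⟩
  exact orderOf_eq_prime rel.c7 C_ne

theorem order_B : orderOf B = 7 := by
  have : Fact (Nat.Prime 7) := ⟨by norm_num⟩
  exact orderOf_eq_prime cj.b7 B_ne

theorem C_x7 : IsConj C x7 := by
  have : Fact (Nat.Prime 2) := ⟨by norm_num⟩
  refine conj_x7 (t := E4 ^ 2) order_C (orderOf_eq_prime ?_ E4_ne) ?_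
  · rw [← pow_mul]; exact E4_pow
  · exact ((show Commute E4 C from E4_comm).pow_left 2).eq

theorem card_C : Nat.card (centralizer ({C} : Set ON)) = 1372 := by
  rw [card_cent_of_isConj C_x7, card_x7]

theorem conj_C {w : ON} (hw : w ∈ zpowers C) (h1 : w ≠ 1) : IsConj w C := by
  have hfin := finite_ON
  rw [← mem_powers_iff_mem_zpowers] at hw
  obtain ⟨n, rfl⟩ := hw
  exact conj_all rel.c7 cj.cc h1

theorem conj_B {w : ON} (hw : w ∈ zpowers B) (h1 : w ≠ 1) : IsConj w B := by
  have hfin := finite_ON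
  rw [← mem_powers_iff_mem_zpowers] at hw
  obtain ⟨n, rfl⟩ := hw
  exact conj_all cj.b7 cj.bb h1

/-! ### the sum over the Sylow subgroup -/

open Cfsg.Agent.Characters.Core
open Cfsg.Agent.H653.Sieve
open Cfsg.Agent.H894.J4Two (apply_eq_of_isConj)

theorem dvd_343 (χ : IrrCharacter ON) (A B' : ℤ) (hA : (χ : ON → ℂ) C = A) (hB : (χ : ON → ℂ) B = B') :
    (343 : ℤ) ∣ (deg χ : ℤ) + 174 * A + 168 * B' := by
  have hfin := finite_ON
  classical
  have := finite_irr (G := ON)
  have := Fintype.ofFinite (IrrCharacter ON)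
  have hinj := phi_injective rel C_ne
  let e := MonoidHom.ofInjective hinj
  have := Fintype.ofFinite (phi rel).range
  obtain ⟨m, hm⟩ := SmallSimple.TheoremBCor.exists_sum_eq (isIrr_isCharacter χ.2) (phi rel).range
  have hcard : Nat.card (phi rel).range = 343 := by
    rw [← Nat.card_congr e.toEquiv, H7.card]
  have h1 : ∑ x : (phi rel).range, (χ : ON → ℂ) x = ∑ g : H7, (χ : ON → ℂ) (phi rel g) :=
    (Fintype.sum_equiv e.toEquiv _ _ fun g => rfl).symm
  have h2 : ∑ g : H7, (χ : ON → ℂ) (phi rel g) = ∑ g : H7, ((if ty g = 0 then ((deg χ : ℤ) : ℂ) else 0) +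
      (if ty g = 1 then (A : ℂ) else 0) + (if ty g = 2 then (B' : ℂ) else 0)) := by
    refine Finset.sum_congr rfl fun g _ => ?_
    obtain ⟨c0, c1, c2⟩ := cj.cls g
    have h3 : ty g = 0 ∨ ty g = 1 ∨ ty g = 2 := by
      have : ∀ i : Fin 3, i = 0 ∨ i = 1 ∨ i = 2 := by decide
      exact this _
    rcases h3 with h | h | h
    · rw [show phi rel g = 1 from c0 h, deg_cast, h]
      simp
    · rw [apply_eq_of_isConj χ.2 (show IsConj (phi rel g) C from c1 h), hA, h]
      simp
    · rw [apply_eq_of_isConj χ.2 (show IsConj (phi rel g) B from c2 h), hB, h]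
      simp
  rw [h1, h2, Finset.sum_add_distrib, Finset.sum_add_distrib, ← Finset.sum_filter, ← Finset.sum_filter,
    ← Finset.sum_filter, Finset.sum_const, Finset.sum_const, Finset.sum_const, card_ty.1, card_ty.2.1, card_ty.2.2,
    hcard] at hm
  refine ⟨m, ?_⟩
  have h6 : (((deg χ : ℤ) + 174 * A + 168 * B' : ℤ) : ℂ) = ((343 * m : ℤ) : ℂ) := by
    push_cast
    simp only [nsmul_eq_mul] at hm
    push_cast at hm
    linear_combination hm
  exact_mod_cast h6

theorem not_conj : ¬ IsConj C B := by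
  have hfin := finite_ON
  intro h
  have := finite_irr (G := ON)
  have := Fintype.ofFinite (IrrCharacter ON)
  obtain ⟨K⟩ := exists_cols (G := ON) card_ON On7.h11 On7.h19 On7.h31
  refine not_all K order_C (fun w hw h1 => conj_C hw h1) card_C fun χ A hA => ?_
  have h1 := dvd_343 χ A A hA (by rw [← apply_eq_of_isConj χ.2 h, hA])
  obtain ⟨k, hk⟩ := h1
  exact ⟨k - A, by linear_combination hk⟩

/-- the elements of the centre of `P` -/
theorem central {u : ON} (hu : u ∈ (phi rel).range) (hc : ∀ g ∈ (phi rel).range, g * u = u * g) (h1 : u ≠ 1) :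
    IsConj u C := by
  obtain ⟨g, rfl⟩ := hu
  have hinj := phi_injective rel C_ne
  have h2 : ∀ j : H7, j * g = g * j := by
    intro j
    apply hinj
    rw [map_mul, map_mul]
    exact hc _ ⟨j, rfl⟩
  have hb : g.b = 0 := by
    have h3 := congrArg H7.k (h2 ⟨1, 0, 0⟩)
    rw [H7.mul_def, H7.mul_def] at h3
    simp only at h3
    linear_combination h3
  have ha : g.a = 0 := by
    have h3 := congrArg H7.k (h2 ⟨0, 1, 0⟩)
    rw [H7.mul_def, H7.mul_def] at h3
    simp only at h3
    linear_combination -h3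
  refine (cj.cls g).2.1 ?_
  unfold ty
  rw [if_neg, if_neg]
  · rintro ⟨h, -⟩
    exact h ha
  · rintro rfl
    exact h1 (map_one _)

theorem card_B : Nat.card (centralizer ({B} : Set ON)) = 49 := by
  have hfin := finite_ON
  have h7F : Fact (Nat.Prime 7) := ⟨by norm_num⟩
  obtain ⟨a, d, hd, hs⟩ := shape7 order_B
  have h2 : ¬ 2 ∣ Nat.card (centralizer ({B} : Set ON)) := by
    intro h
    obtain ⟨t, ht, htB⟩ := exists_comm (by norm_num : Nat.Prime 2) h
    exact not_conj (C_x7.trans (conj_x7 order_B ht htB).symm)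
  have ha0 : a = 0 := by
    by_contra h
    apply h2
    obtain ⟨k, rfl⟩ := Nat.exists_eq_succ_of_ne_zero h
    exact ⟨2 ^ k * 7 ^ d, by rw [hs, pow_succ]; ring⟩
  subst ha0
  rw [pow_zero, one_mul] at hs
  have hCB : C * B = B * C := by
    have h1 : Commute C B := (show Commute C X from rel.cx).mul_right (show Commute C Y from rel.cy)
    exact h1.eq
  -- not `7`
  have hd1 : 2 ≤ d := by
    by_contra h
    have h3 : zpowers B = centralizer ({B} : Set ON) := by
      refine eq_of_le_of_card_ge ?_ ?_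
      · rw [zpowers_le]; exact mem_cent.2 rfl
      · rw [Nat.card_zpowers, order_B, hs]
        calc 7 ^ d ≤ 7 ^ 1 := Nat.pow_le_pow_right (by norm_num) (by omega)
          _ = 7 := by norm_num
    have h4 : C ∈ zpowers B := by
      rw [h3]; exact mem_cent.2 hCB
    exact not_conj (conj_B h4 C_ne)
  -- not `343`
  have hd3 : d ≠ 3 := by
    rintro rfl
    have hP : IsPGroup 7 (phi rel).range := by
      refine IsPGroup.of_card (n := 3) ?_
      rw [← Nat.card_congr (MonoidHom.ofInjective (phi_injective rel C_ne)).toEquiv, H7.card]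
      norm_num
    obtain ⟨P1, hP1⟩ := hP.exists_le_sylow
    have hPe : (phi rel).range = (P1 : Subgroup ON) := by
      refine eq_of_le_of_card_ge hP1 ?_
      have := card_sylow_seven P1
      rw [← Nat.card_congr (MonoidHom.ofInjective (phi_injective rel C_ne)).toEquiv, H7.card]
      exact this.le
    obtain ⟨Q1, hQ1⟩ := (IsPGroup.of_card (p := 7) (n := 3) hs).exists_le_sylow
    have hQe : centralizer ({B} : Set ON) = (Q1 : Subgroup ON) := by
      refine eq_of_le_of_card_ge hQ1 ?_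
      have := card_sylow_seven Q1
      rw [hs]
      exact this.le
    obtain ⟨g, hg⟩ := MulAction.exists_smul_eq ON P1 Q1
    have hQg : ∀ b : ON, b ∈ (P1 : Subgroup ON) ↔ g * b * g⁻¹ ∈ (Q1 : Subgroup ON) := by
      intro b
      rw [← hg]
      constructor
      · intro hb
        exact ⟨b, hb, rfl⟩
      · rintro ⟨a, ha, hab⟩
        have hab' : g * a * g⁻¹ = g * b * g⁻¹ := hab
        have := mul_left_cancel (mul_right_cancel hab')
        rw [← this]; exact ha
    have h5 : g⁻¹ * B * g ∈ (phi rel).range := by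
      rw [hPe, hQg, ← hQe]
      have : g * (g⁻¹ * B * g) * g⁻¹ = B := by group
      rw [this]
      exact mem_cent.2 rfl
    have h6 := central h5 (fun p hp => by
      rw [hPe, hQg, ← hQe] at hp
      have h7 := mem_cent.1 hp
      calc p * (g⁻¹ * B * g) = g⁻¹ * (g * p * g⁻¹ * B) * g := by group
        _ = g⁻¹ * (B * (g * p * g⁻¹)) * g := by rw [h7]
        _ = _ := by group) (by
      intro h
      apply B_ne
      calc B = g * (g⁻¹ * B * g) * g⁻¹ := by group
        _ = 1 := by rw [h]; group)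
    refine not_conj (h6.symm.trans (isConj_iff.2 ⟨g, by group⟩))
  have hd2 : d = 2 := by omega
  rw [hs, hd2]
  norm_num

/-- **the character of degree 207360 of the O'Nan group** -/
theorem exists_charDegree : ∃ χ : IrrCharacter ON, charDegree (χ : ON → ℂ) = 207360 := by
  have hfin := finite_ON
  exact H266.ON3.exists_charDegree ⟨card_ON, On7.h11, On7.h19, On7.h31⟩ order_C order_B (fun w hw h1 => conj_C hw h1)
    (fun w hw h1 => conj_B hw h1) not_conj card_C card_B dvd_343

end Cfsg.Agent.H210.ON3
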