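import Cfsg.Agent.H266.ON3.Heis

/-!
# The classes of the elements of a group of order 343 and exponent 7 (helper210)

`x y c` satisfy the relations; the lines `x y ^ s`, `s = 0, 2, 5`, and `y` are conjugate to powers of `c`, the lines
`x y ^ s`, `s = 1, 3, 4, 6`, to powers of `b`.
-/

set_option autoImplicit false

namespace Cfsg.Agent.H210.ON3

open Cfsg.Agent.H266.ON3

/-- conjugates in `H7` -/
theorem conj_k {g : H7} (h : g.a ≠ 0 ∨ g.b ≠ 0) (k : ZMod 7) : IsConj g ⟨g.a, g.b, k⟩ := by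
  have : Fact (Nat.Prime 7) := ⟨by norm_num⟩
  rw [isConj_iff]
  rcases h with h | h
  · refine ⟨⟨0, (g.k - k) / g.a, 0⟩, ?_⟩
    rw [H7.mul_def, H7.mul_def, H7.inv_def]
    ext
    · simp
    · simp
    · simp only
      field_simp
      ring
  · refine ⟨⟨(k - g.k) / g.b, 0, 0⟩, ?_⟩
    rw [H7.mul_def, H7.mul_def, H7.inv_def]
    ext
    · simp
    · simp
    · simp only
      field_simp
      ring

theorem a_pow (g : H7) (n : ℕ) : (g ^ n).a = n * g.a := by
  induction n with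
  | zero => rw [pow_zero, Nat.cast_zero, zero_mul]; rfl
  | succ n ih => rw [pow_succ, H7.mul_def]; simp only; rw [ih]; push_cast; ring

theorem b_pow (g : H7) (n : ℕ) : (g ^ n).b = n * g.b := by
  induction n with
  | zero => rw [pow_zero, Nat.cast_zero, zero_mul]; rfl
  | succ n ih => rw [pow_succ, H7.mul_def]; simp only; rw [ih]; push_cast; ring

/-- the type of an element: `0` the identity, `1` conjugate to `c`, `2` conjugate to `b` -/
def ty (g : H7) : Fin 3 :=
  if g = 1 then 0 else if g.a ≠ 0 ∧ (g.b = g.a ∨ g.b = 3 * g.a ∨ g.b = 4 * g.a ∨ g.b = 6 * g.a) then 2 else 1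

theorem card_ty : (Finset.univ.filter fun g : H7 => ty g = 0).card = 1 ∧
    (Finset.univ.filter fun g : H7 => ty g = 1).card = 174 ∧
    (Finset.univ.filter fun g : H7 => ty g = 2).card = 168 := by
  decide +kernel

section

variable {G : Type*} [Group G] {x y c b : G}

/-- the conjugations -/
structure Cj (x y c b : G) : Prop where
  rel : Rel x y c
  cne : c ≠ 1
  bne : b ≠ 1
  hb : b = x * y
  cc : IsConj (c ^ 3) c
  bb : IsConj (b ^ 3) b
  ly : ∃ n : ℕ, IsConj y (c ^ n)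
  l0 : ∃ n : ℕ, IsConj x (c ^ n)
  l2 : ∃ n : ℕ, IsConj (x * y ^ 2) (c ^ n)
  l5 : ∃ n : ℕ, IsConj (x * y ^ 5) (c ^ n)
  l3 : ∃ n : ℕ, IsConj (x * y ^ 3) (b ^ n)
  l4 : ∃ n : ℕ, IsConj (x * y ^ 4) (b ^ n)
  l6 : ∃ n : ℕ, IsConj (x * y ^ 6) (b ^ n)

theorem isConj_pow {g h : G} (hc : IsConj g h) (n : ℕ) : IsConj (g ^ n) (h ^ n) := by
  rw [isConj_iff] at hc ⊢
  obtain ⟨u, hu⟩ := hc
  exact ⟨u, by rw [← hu, conj_pow]⟩

theorem conj_all {c : G} (c7 : c ^ 7 = 1) (h : IsConj (c ^ 3) c) {n : ℕ} (hn : c ^ n ≠ 1) : IsConj (c ^ n) c := by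
  have key : ∀ k : ℕ, IsConj (c ^ 3 ^ k) c := by
    intro k
    induction k with
    | zero => rw [pow_zero, pow_one]
    | succ k ih =>
      rw [pow_succ', pow_mul]
      exact (isConj_pow h _).trans ih
  have hm : ∀ m : ℕ, c ^ m = c ^ (m % 7) := by
    intro m
    conv_lhs => rw [← Nat.div_add_mod m 7, pow_add, pow_mul, c7, one_pow, one_mul]
  rw [hm] at hn ⊢
  have hlt : n % 7 < 7 := Nat.mod_lt _ (by norm_num)
  interval_cases h7 : n % 7
  · exact absurd (pow_zero c) hn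
  · have := key 6; rw [hm] at this; exact this
  · have := key 2; rw [hm] at this; exact this
  · have := key 1; rw [hm] at this; exact this
  · have := key 4; rw [hm] at this; exact this
  · have := key 5; rw [hm] at this; exact this
  · have := key 3; rw [hm] at this; exact this

theorem ne_of_isConj {g h : G} (hc : IsConj g h) (hg : g ≠ 1) : h ≠ 1 := by
  rintro rfl
  exact hg (isConj_one_left.1 hc)

/-- an element of a line whose representative is conjugate to a power of `w` -/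
theorem line (hr : Rel x y c) (hinj : Function.Injective (phi hr)) {w : G} (w7 : w ^ 7 = 1) (hw : IsConj (w ^ 3) w)
    {u : H7} {g : H7} {m : ℕ} (hu : ∃ n : ℕ, IsConj (phi hr u) (w ^ n)) (hg : g.a ≠ 0 ∨ g.b ≠ 0)
    (ha : g.a = m * u.a) (hb : g.b = m * u.b) : IsConj (phi hr g) w := by
  obtain ⟨n, hn⟩ := hu
  have h1 : IsConj g (u ^ m) := by
    have h := conj_k hg (u ^ m).k
    rwa [ha, hb, ← a_pow, ← b_pow] at h
  have h2 : IsConj (phi hr g) (phi hr (u ^ m)) := (phi hr).map_isConj h1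
  rw [map_pow] at h2
  have h3 := h2.trans (isConj_pow hn m)
  rw [← pow_mul] at h3
  have hg1 : phi hr g ≠ 1 := by
    intro h
    have : g = 1 := hinj (h.trans (map_one _).symm)
    rw [this] at hg
    rcases hg with h | h <;> exact h rfl
  exact h3.trans (conj_all w7 hw (ne_of_isConj h3 hg1))

theorem Cj.b7 (h : Cj x y c b) : b ^ 7 = 1 := by
  have e1 : b = phi h.rel ⟨1, 1, 0⟩ := by
    rw [phi_apply, h.hb, e_one, e_one, e_zero, mul_one]
  rw [e1, ← map_pow]
  have : (⟨1, 1, 0⟩ : H7) ^ 7 = 1 := by decide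
  rw [this, map_one]

theorem Cj.cls (h : Cj x y c b) (g : H7) : (ty g = 0 → phi h.rel g = 1) ∧ (ty g = 1 → IsConj (phi h.rel g) c) ∧
    (ty g = 2 → IsConj (phi h.rel g) b) := by
  have hinj := phi_injective h.rel h.cne
  have e1 : ∀ (s : ZMod 7) (n : ℕ), (n : ZMod 7) = s → phi h.rel ⟨1, s, 0⟩ = x * y ^ n := by
    rintro s n rfl
    rw [phi_apply, e_one, e_nat h.rel.y7, e_zero, mul_one]
  have e2 : phi h.rel ⟨0, 1, 0⟩ = y := by rw [phi_apply, e_zero, e_one, e_zero, one_mul, mul_one]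
  have e3 : ∀ k : ZMod 7, phi h.rel ⟨0, 0, k⟩ = c ^ k.val := fun k => by
    rw [phi_apply, e_zero, e_zero, one_mul, one_mul]; rfl
  refine ⟨fun h0 => ?_, fun h1 => ?_, fun h2 => ?_⟩
  · have : g = 1 := by
      by_contra hne
      unfold ty at h0
      rw [if_neg hne] at h0
      split_ifs at h0
      · exact absurd h0 (by decide)
      · exact absurd h0 (by decide)
    rw [this, map_one]
  · have hg1 : g ≠ 1 := by
      rintro rfl
      unfold ty at h1
      rw [if_pos rfl] at h1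
      exact absurd h1 (by decide)
    have hns : ¬ (g.a ≠ 0 ∧ (g.b = g.a ∨ g.b = 3 * g.a ∨ g.b = 4 * g.a ∨ g.b = 6 * g.a)) := by
      intro h'
      unfold ty at h1
      rw [if_neg hg1, if_pos h'] at h1
      exact absurd h1 (by decide)
    by_cases ha : g.a = 0
    · by_cases hb : g.b = 0
      · have e : g = ⟨0, 0, g.k⟩ := H7.ext ha hb rfl
        rw [e, e3]
        refine conj_all h.rel.c7 h.cc ?_
        rw [← e3, ← e]
        exact fun h' => hg1 (hinj (h'.trans (map_one _).symm))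
      · exact line h.rel hinj h.rel.c7 h.cc (u := ⟨0, 1, 0⟩) (m := g.b.val) (by rw [e2]; exact h.ly) (Or.inr hb)
          (by rw [ha, mul_zero]) (by rw [mul_one, ZMod.natCast_zmod_val])
    · have hs : g.b = 0 * g.a ∨ g.b = 2 * g.a ∨ g.b = 5 * g.a := by
        have key : ∀ a b : ZMod 7, a ≠ 0 → ¬ (a ≠ 0 ∧ (b = a ∨ b = 3 * a ∨ b = 4 * a ∨ b = 6 * a)) →
          b = 0 * a ∨ b = 2 * a ∨ b = 5 * a := by decide
        exact key _ _ ha hns
      rcases hs with hs | hs | hs
      · exact line h.rel hinj h.rel.c7 h.cc (u := ⟨1, 0, 0⟩) (m := g.a.val)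
          (by rw [e1 0 0 (by simp), pow_zero, mul_one]; exact h.l0) (Or.inl ha)
          (by rw [mul_one, ZMod.natCast_zmod_val]) (by rw [hs, zero_mul, mul_zero])
      · exact line h.rel hinj h.rel.c7 h.cc (u := ⟨1, 2, 0⟩) (m := g.a.val)
          (by rw [e1 2 2 rfl]; exact h.l2) (Or.inl ha)
          (by rw [mul_one, ZMod.natCast_zmod_val]) (by rw [hs, ZMod.natCast_zmod_val, mul_comm])
      · exact line h.rel hinj h.rel.c7 h.cc (u := ⟨1, 5, 0⟩) (m := g.a.val)
          (by rw [e1 5 5 rfl]; exact h.l5) (Or.inl ha)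
          (by rw [mul_one, ZMod.natCast_zmod_val]) (by rw [hs, ZMod.natCast_zmod_val, mul_comm])
  · have hs : g.a ≠ 0 ∧ (g.b = g.a ∨ g.b = 3 * g.a ∨ g.b = 4 * g.a ∨ g.b = 6 * g.a) := by
      unfold ty at h2
      split_ifs at h2 with h3 h4
      · exact absurd h2 (by decide)
      · exact h4
      · exact absurd h2 (by decide)
    obtain ⟨ha, hs⟩ := hs
    rcases hs with hs | hs | hs | hs
    · exact line h.rel hinj h.b7 h.bb (u := ⟨1, 1, 0⟩) (m := g.a.val)
        ⟨1, by rw [e1 1 1 (by simp), pow_one, pow_one, ← h.hb]⟩ (Or.inl ha)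
        (by rw [mul_one, ZMod.natCast_zmod_val]) (by rw [hs, ZMod.natCast_zmod_val, mul_one])
    · exact line h.rel hinj h.b7 h.bb (u := ⟨1, 3, 0⟩) (m := g.a.val)
        (by rw [e1 3 3 rfl]; exact h.l3) (Or.inl ha)
        (by rw [mul_one, ZMod.natCast_zmod_val]) (by rw [hs, ZMod.natCast_zmod_val, mul_comm])
    · exact line h.rel hinj h.b7 h.bb (u := ⟨1, 4, 0⟩) (m := g.a.val)
        (by rw [e1 4 4 rfl]; exact h.l4) (Or.inl ha)
        (by rw [mul_one, ZMod.natCast_zmod_val]) (by rw [hs, ZMod.natCast_zmod_val, mul_comm])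
    · exact line h.rel hinj h.b7 h.bb (u := ⟨1, 6, 0⟩) (m := g.a.val)
        (by rw [e1 6 6 rfl]; exact h.l6) (Or.inl ha)
        (by rw [mul_one, ZMod.natCast_zmod_val]) (by rw [hs, ZMod.natCast_zmod_val, mul_comm])

end

end Cfsg.Agent.H210.ON3
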