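import Cfsg.Agent.H210.ON3.Cent
import Cfsg.Agent.H620.PNorm
import Cfsg.Agent.H620.TwoVanON

/-!
# The O'Nan group, `p = 3` (helper210, with helper266)

The irreducible character of degree `207360 = 2 ^ 9 * 3 ^ 4 * 5` has 3-defect zero.
-/

set_option autoImplicit false

namespace Cfsg.Agent.H210.ON3

open Cfsg Cfsg.Agent.H620 Cfsg.Agent.H620.PNorm Cfsg.Agent.H713 Cfsg.Agent.H620.SporCrit Cfsg.Agent.H620.RowClass
  Cfsg.Agent.H620.RowSporA Cfsg.Agent.H665.NoPQ Cfsg.Agent.H387.VO Cfsg.Agent.H419.Row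

theorem hasDZ_three : HasDZ 3 Spor.ON := by
  obtain ⟨χ, hχ⟩ := exists_charDegree
  have hcard := Cfsg.Agent.H620.ONStruct.card_ON
  refine dz_of_dvd (n := 4) χ (by rw [hχ]; norm_num) ?_ (by norm_num)
  rw [hcard]
  exact factorization_eq (m := 5689080320) (by norm_num) (by norm_num) (by norm_num)

/-- **the O'Nan group has a vanishing element of order three** -/
theorem on_3 {K : Type*} [Group K] (h : Spor.IsoON K) : VOrdP 3 K := by
  obtain ⟨e⟩ := h
  have hfin := KFacts.ON.Cent.finite_ON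
  have h3F : Fact (Nat.Prime 3) := ⟨Nat.prime_three⟩
  refine VOrdP.mulEquiv ?_ e.symm
  have hd : 3 ∣ Nat.card Spor.ON := by rw [Cfsg.Agent.H620.ONStruct.card_ON]; norm_num
  obtain ⟨x, hx⟩ := exists_prime_orderOf_dvd_card' (G := Spor.ON) 3 hd
  exact ⟨x, hx, Cfsg.Agent.H713.HasDZ.vz hasDZ_three (by rw [hx])⟩

end Cfsg.Agent.H210.ON3
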