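import Cfsg.Agent.H210.ON3.Abs
import Cfsg.Agent.H51.ONSeven
import Cfsg.Agent.KFacts.ON.Words

/-!
# The words of the Sylow 7-subgroup of the O'Nan group (helper210)
-/

set_option autoImplicit false
set_option maxRecDepth 100000
set_option Elab.async false

namespace Cfsg.Agent.H210.ON3

open Subgroup Cfsg
open Cfsg.Spor (ON)
open Cfsg.Spor.ON (Gen)
open Cfsg.Agent.KFacts.ON.Words (hs eq conj)
open Cfsg.Agent.KFacts.MulSpor.ON (w w_append w_one w_cons w_iw iw)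
open Cfsg.Agent.H51.ONSeven (wx wy wc w_wc w_nil)
open Cfsg.Agent.H266.ON3

open scoped commutatorElement

def X : ON := w wx
def Y : ON := w wy
def C : ON := w wc
def B : ON := X * Y

theorem C_eq : C = ⁅X, Y⁆ := w_wc hs

theorem rel : Rel X Y C where
  x7 := H51.ONSeven.x7 hs
  y7 := H51.ONSeven.y7 hs
  c7 := by
    have h1 : X * Y * X⁻¹ = C * Y := by rw [C_eq, commutatorElement_def]; group
    have h2 : Commute C Y := by rw [C_eq]; exact H51.ONSeven.cy hs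
    have h3 : (C * Y) ^ 7 = C ^ 7 := by
      rw [h2.mul_pow, show Y ^ 7 = 1 from H51.ONSeven.y7 hs, mul_one]
    rw [← h3, ← h1, conj_pow, show Y ^ 7 = 1 from H51.ONSeven.y7 hs]
    group
  cx := by rw [C_eq]; exact H51.ONSeven.cx hs
  cy := by rw [C_eq]; exact H51.ONSeven.cy hs
  xy := by rw [C_eq, commutatorElement_def]; group

theorem C_ne : C ≠ 1 := by rw [C_eq]; exact H51.ONSeven.c_ne hs

/-- powers of words -/
def pw (l : List Gen) (n : ℕ) : List Gen := (List.replicate n l).flatten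

theorem w_pw (l : List Gen) : ∀ n : ℕ, w (pw l n) = w l ^ n := by
  intro n
  induction n with
  | zero => rw [pow_zero]; rfl
  | succ n ih => rw [pow_succ', ← ih, ← w_append]; rfl

/-- conjugation of words -/
theorem isConj_w (u : List Gen) {x y : ON} (a b : List Gen) (hx : w a = x) (hy : w b = y)
    (h : KFacts.MulSpor.ON.okw (u ++ a ++ iw (b ++ u)) = true) : IsConj x y := by
  rw [isConj_iff, ← hx, ← hy]
  exact ⟨w u, conj u a b h⟩

theorem w_B : w (wx ++ wy) = B := by rw [w_append, B, X, Y]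

theorem w_xy (n : ℕ) : w (wx ++ pw wy n) = X * Y ^ n := by rw [w_append, w_pw, X, Y]

theorem w_Bn (n : ℕ) : w (pw (wx ++ wy) n) = B ^ n := by rw [w_pw, w_B]

theorem cc : IsConj C (C ^ 3) :=
  isConj_w [.c, .d, .e, .d, .b, .c, .d, .a] wc (pw wc 3) rfl (w_pw _ _) (by decide +kernel)

theorem bb : IsConj B (B ^ 3) :=
  isConj_w [.f, .d, .b, .c, .d, .e, .d, .a, .b, .c] (wx ++ wy) (pw (wx ++ wy) 3) w_B (w_Bn 3) (by decide +kernel)

theorem cy3 : IsConj C (Y ^ 3) :=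
  isConj_w [.e, .f, .d, .e] wc (pw wy 3) rfl (w_pw _ _) (by decide +kernel)

theorem cx5 : IsConj C (X ^ 5) :=
  isConj_w [.a, .b, .c, .d, .c, .a, .b, .a] wc (pw wx 5) rfl (w_pw _ _) (by decide +kernel)

theorem s2 : IsConj (X * Y ^ 2) (C ^ 6) :=
  isConj_w [.a, .b, .c, .g, .g, .g, .d, .e, .g, .g, .g, .b, .d, .c, .b, .d, .c, .d, .e, .b, .g, .d, .e, .a] (wx ++ pw wy 2) (pw wc 6) (w_xy 2) (w_pw _ _)
    (by decide +kernel)

theorem s5 : IsConj (X * Y ^ 5) (X * Y ^ 2) :=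
  isConj_w [.f, .d] (wx ++ pw wy 5) (wx ++ pw wy 2) (w_xy 5) (w_xy 2) (by decide +kernel)

theorem s3 : IsConj (X * Y ^ 3) (B ^ 6) :=
  isConj_w [.a, .b, .d, .c, .d, .e, .d, .c, .d, .c, .b, .e, .d, .c, .d, .c, .e] (wx ++ pw wy 3) (pw (wx ++ wy) 6) (w_xy 3) (w_Bn 6)
    (by decide +kernel)

theorem s4 : IsConj (X * Y ^ 4) (B ^ 6) :=
  isConj_w [.a, .b, .a, .c, .d, .e, .d, .c, .d, .c, .b, .e, .d, .c, .d, .c, .b, .e, .f] (wx ++ pw wy 4) (pw (wx ++ wy) 6) (w_xy 4) (w_Bn 6)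
    (by decide +kernel)

theorem s6 : IsConj (X * Y ^ 6) B :=
  isConj_w [.d, .f] (wx ++ pw wy 6) (wx ++ wy) (w_xy 6) w_B (by decide +kernel)

/-- an element of order four commuting with `C` -/
def we4 : List Gen := [.a, .b, .c, .d, .c, .e, .f, .e, .d, .e, .c, .d, .c, .b, .a]
def E4 : ON := w we4

theorem E4_pow : E4 ^ 4 = 1 := by
  rw [E4, ← w_pw]
  exact KFacts.MulSpor.ON.rel hs _ (by decide +kernel)

theorem E4_comm : E4 * C = C * E4 := by
  rw [E4, C, ← w_append, ← w_append]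
  exact eq _ _ (by decide +kernel)

theorem E4_ne : E4 ^ 2 ≠ 1 := by
  rw [E4, ← w_pw, ← w_nil]
  exact Cfsg.Agent.ONType.TupRow.ne_of_rowNe (SporadicB.ON45Word.LW.word _) (SporadicB.ON45Word.LW.word _)
    (by decide +kernel)

theorem B_ne : B ≠ 1 := by
  rw [← w_B, ← w_nil]
  exact Cfsg.Agent.ONType.TupRow.ne_of_rowNe (SporadicB.ON45Word.LW.word _) (SporadicB.ON45Word.LW.word _)
    (by decide +kernel)

theorem cj : Cj X Y C B where
  rel := rel
  cne := C_ne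
  bne := B_ne
  hb := rfl
  cc := cc.symm
  bb := bb.symm
  ly := ⟨5, by
    have h := (isConj_pow cy3 5).symm
    rwa [← pow_mul, show 3 * 5 = 7 + 7 + 1 from rfl, pow_add, pow_add, rel.y7, one_mul, one_mul, pow_one] at h⟩
  l0 := ⟨3, by
    have h := (isConj_pow cx5 3).symm
    rwa [← pow_mul, show 5 * 3 = 7 + 7 + 1 from rfl, pow_add, pow_add, rel.x7, one_mul, one_mul, pow_one] at h⟩
  l2 := ⟨6, s2⟩
  l5 := ⟨6, s5.trans s2⟩
  l3 := ⟨6, s3⟩
  l4 := ⟨6, s4⟩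
  l6 := ⟨1, by rw [pow_one]; exact s6⟩

end Cfsg.Agent.H210.ON3
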